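/-
Groups with the involution fusion pattern of an alternating group of degree 10, 14 or 18: fusion of four-groups.
-/
import Cfsg.Agent.A18.Perm

set_option autoImplicit false
set_option linter.unusedSectionVars false

open Cfsg Subgroup Equiv Equiv.Perm CL.Even CL.Grp CL.Altn CL.ST4 CL.Loc CL.A16
open CL.M12c (Cj Fu Sy mem_cent mem_cent' exists_conj_into mem_norm_fin map_le_cent Oc odd_Oc odd_of_mem Oc_conj)
open CL.Gold (SC SCl Cmp)

namespace CL.A18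

universe u

variable {Ω : Type} [DecidableEq Ω] [Fintype Ω]

section

variable {G : Type*} [Group G] [Finite G] {L : Type*} [Group L] [Finite L]
variable {φ : L →* G} {j : L →* Perm Ω} {a b x y x' y' z v w ζ ζ' : L} {g : G}

namespace Pat

variable (P : Pat φ j)
include P

theorem sgn (a : L) : sign (j a) = 1 := P.sj.le ⟨a, rfl⟩

theorem sq (h : j a * j a = 1) : a * a = 1 := P.inj (by rw [map_mul, h, map_one])

theorem comm (h : Commute (j a) (j b)) : Commute a b := P.inj (by rw [map_mul, map_mul, h.eq])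

theorem v4 (h : KP (j x) (j y)) : V4 x y := ⟨P.sq h.l.1, P.sq h.r.1, fun e => DT.ne_one' h.l (by rw [e, map_one]),
  fun e => DT.ne_one' h.r (by rw [e, map_one]), fun e => h.ne (by rw [e]), P.comm h.comm⟩

theorem in3 (h : KP (j x) (j y)) (hw : K4 (j x).support (j w)) : w = 1 ∨ In3 x y w :=
  (h.cases hw).imp (fun e => P.inj (e.trans j.map_one.symm)) fun k => let ⟨_, k, e⟩ := A16.In3.lift k; P.inj e ▸ k

theorem exists_fc {s : Perm Ω} (s2 : s * s = 1) (ss : sign s = 1) : ∃ b, sc (j b) = sc s ∧ Fc φ j b := by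
  obtain ⟨c, -, a, e⟩ := M12c.exists_conj_inv P.sj s2 ss
  have : Nonempty {b // b * b = 1 ∧ sc (j b) = sc s} :=
    ⟨a, P.sq (by rw [e, conj_mul, s2]; simp), e ▸ card_support_conj⟩
  obtain ⟨⟨b, b2, b1⟩, h⟩ := Finite.exists_max fun b : {b // b * b = 1 ∧ sc (j b) = sc s} => Nat.card (centralizer {b.1})
  exact ⟨b, b1, b2, by simpa using syl_of_max P.sy.inj P.sy.syl fun g _ b' e => h ⟨b', P.sy.sq e b2, P.ty b2 e ▸ b1⟩,
    syl_of_max P.inj P.sj fun g _ b' e => h ⟨b', P.sq (by rw [← e, conj_mul, jsq b2]; simp),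
      by rw [← e]; exact card_support_conj.trans b1⟩⟩

theorem ext (h : Fc φ j b) (ha : a * a = 1) (e : sc (j a) = sc (j b)) :
    ∃ g, Cj φ g a b ∧ ∀ u, Commute u a → ∃ u', Commute u' b ∧ Cj φ g u u' :=
  let ⟨g, h1, h2⟩ := A8s.extremal P.sy h.g (P.fu ha h.sq e)
  ⟨g, h1, fun u hu => let ⟨u', h3, h4⟩ := h2 u hu; ⟨u', mem_cent.1 h3, h4⟩⟩

theorem dt (h : DT (j x)) (h1 : Cj φ g x x') : DT (j x') :=
  ⟨jsq (P.sy.sq h1 (P.sq h.1)), (P.ty (P.sq h.1) h1).symm.trans h.2⟩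

theorem exists_kp (h : Fc φ j z) (hz : DT (j z)) : ∃ v, KP (j z) (j v) := by
  obtain ⟨k, hk, k1, k2, -⟩ := SC.other hz
  obtain ⟨v, -, rfl⟩ := h.p.le_of_normalized isP_kS (fun s (hs : K4 _ s) => ⟨mem_cent.2 (hs.mul (DT.k4 hz)).2, hs.sign⟩)
    (fun c hc => mem_norm_fin fun s hs => K4.cj' hs (pres_of_comm (mem_cent.1 hc.1))) (.inr ⟨hk, k2⟩ : K4 _ k)
  exact ⟨v, hz, hk, k1, k2⟩

theorem fc_central (a2 : a * a = 1) (h : ∀ l, Commute a l) : Fc φ j a := by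
  have e : centralizer {a} = ⊤ := eq_top_iff.2 fun l _ => mem_cent.2 (h l).symm
  refine ⟨a2, ?_, ?_⟩ <;> rw [e, ← MonoidHom.range_eq_map]
  · exact P.sy.syl.of_le (by rintro _ ⟨l, rfl⟩; exact mem_cent.2 ((h l).symm.map φ)) le_top
  · exact P.sj.of_le (le_inf (by rintro _ ⟨l, rfl⟩; exact mem_cent.2 ((h l).symm.map j)) P.sj.le) inf_le_right

theorem zeta : ∃ ζ η p, ∃ Z : ZZ (j ζ) η p, (∀ l, Commute ζ l) ∧ eS η Z.e2 ≤ j.range := by
  obtain ⟨_, ⟨ζ, rfl⟩, h1, h2, h3⟩ := exists_zeta P.n P.sj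
  obtain ⟨η, p, Z⟩ := exists_zz h1 (P.sgn ζ) h2
  have zc : ∀ l, Commute ζ l := fun l => P.comm (mem_cent.1 (h3 ⟨l, rfl⟩)).symm
  refine ⟨ζ, η, p, Z, zc, (P.sj.of_le (le_inf (show j.range ≤ centralizer {η} from ?_) P.sj.le)
    inf_le_right).le_of_normalized (fun s => ⟨1, Subtype.ext (by simpa [_root_.sq] using es_sq s.2)⟩)
    (fun s hs => ⟨mem_cent.2 (es_comm hs), hs.1⟩) fun c hc => mem_norm_fin fun s hs => es_cj hs (mem_cent.1 hc.1)⟩
  rintro _ ⟨l, rfl⟩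
  exact mem_cent.2 (Z.cm _ ((zc l).symm.map j))

theorem rl (g : G) : Rl fun s s' => ∃ a a', j a = s ∧ j a' = s' ∧ Cj φ g a a' := by
  refine ⟨?_, ?_, ?_⟩
  · rintro _ _ _ _ ⟨a, a', rfl, rfl, h⟩ ⟨b, b', rfl, rfl, h'⟩
    exact ⟨_, _, map_mul .., map_mul .., h.mul h'⟩
  · rintro _ _ ⟨a, a', rfl, rfl, h⟩
    rw [map_eq_one_iff _ P.inj, map_eq_one_iff _ P.inj]
    exact ⟨fun e => by_contra fun n => P.sy.ne_one h.symm n e, fun e => by_contra fun n => P.sy.ne_one h n e⟩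
  · rintro _ _ ⟨a, a', rfl, rfl, h⟩ e
    exact P.ty (P.sq e) h

end Pat

/-- the degrees 14 and 18 -/
structure Pb (φ : L →* G) (j : L →* Perm Ω) : Prop extends Pat φ j where
  big : 14 ≤ Fintype.card Ω

namespace Pb

variable (P : Pb φ j)
include P

/-- the four-groups on four points are closed under fusion -/
theorem kp (h : KP (j x) (j y)) (h1 : Cj φ g x x') (h2 : Cj φ g y y') : KP (j x') (j y') := by
  obtain ⟨ζ, η, p, Z, zc, le⟩ := P.zeta
  obtain ⟨k, g', c, c', k1, k2, k3, k4, k5, k6⟩ := A8s.both P.sy h1 h2 (P.v4 h).cm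
  refine (P.rl g').dirB Z P.big ((zc _).map j) ((zc _).map j) ⟨_, _, rfl, rfl, k3⟩ ⟨_, _, rfl, rfl, k4⟩
    ((P.rl k).dirA Z P.big ((zc _).map j) ((zc _).map j) ⟨_, _, rfl, rfl, k1⟩ ⟨_, _, rfl, rfl, k2⟩ h
      fun s hs s1 s2 => ?_) fun s hs s1 s2 => ?_
  · obtain ⟨a, rfl⟩ := le hs
    obtain ⟨a', e⟩ := k5 a (P.comm s1) (P.comm s2)
    exact ⟨_, _, _, rfl, rfl, e⟩
  · obtain ⟨a, rfl⟩ := le hs
    obtain ⟨a', e⟩ := k6 a (P.comm s1) (P.comm s2)
    exact ⟨_, _, _, rfl, rfl, e⟩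

theorem other (h : KP (j z) (j v)) (h' : KP (j z) (j y)) : y = v ∨ y = v * z := by
  rcases P.in3 h h'.kr with rfl | rfl | rfl | rfl
  exacts [absurd (map_one j) (DT.ne_one' h'.r), absurd rfl h'.ne, .inl rfl, .inr (P.v4 h).cm]

theorem pair (h : KP (j z) (j v)) {y : Fin 2 → L} (y2 : ∀ i, y i * y i = 1) (c1 : ∀ i, Commute z (y i))
    (c2 : ∀ i, Commute v (y i)) {m : ℕ} (hm : ∀ i, sc (j (y i)) = m)
    (hy : (m = 8 ∧ ∀ i, sc (j (z * y i)) = 4) ∨ (Fintype.card Ω ≤ m + 10 ∧ ∀ i, sc (j (z * y i)) = m + 4)) :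
    ∃ g, Cj φ g (y 0) (y 1) ∧ ∀ w, In3 z v w → ∃ w', In3 z v w' ∧ Cj φ g w w' := by
  obtain ⟨b, e, hb⟩ := P.exists_fc (jsq (y2 0)) (P.sgn _)
  rw [hm] at e
  choose g h1 h2 using fun i => P.ext hb (y2 i) ((hm i).trans e.symm)
  choose x x1 x2 using fun i => h2 i z (c1 i)
  choose x' x3 x4 using fun i => h2 i v (c2 i)
  have kp := fun i => P.kp h (x2 i) (x4 i)
  have t := fun i => P.ty (FG.mul_sq (P.v4 h).uu (y2 i) (c1 i)) ((x2 i).mul (h1 i))
  obtain ⟨s, s1, s2⟩ : ∃ s, Commute s b ∧ (j (x 0)).support.map (j s).toEmbedding = (j (x 1)).support := by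
    rcases k4_disj P.sj.isPGroup (kp 0).l.2 (kp 1).l.2 (kp_le (kp 0)) (kp_le (kp 1)) with k | k
    · exact ⟨1, .one_left _, by rw [map_one, ← k]; exact Finset.map_refl⟩
    obtain ⟨τ, t1, t2, t3, t4⟩ := exists_tau (kp 0).l (kp 1).l k
    obtain ⟨X, X1, X2, X3, X4⟩ : ∃ X, (∀ c, Commute c (j b) → Pres X c) ∧ X.card < 12 ∧
        (∀ i, (j (x i)).support ⊆ X) ∧ Commute τ (j b) := by
      rcases hy with ⟨rfl, hy⟩ | ⟨hn, hy⟩
      · have m : ∀ i, j (x i) ∈ eS (j b) (jsq hb.sq) := fun i => mem_es (kp i).l.1 (P.sgn _) (by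
          rw [← map_mul, ← t, hy, e, show sc _ = 4 from (kp i).l.2])
        refine ⟨_, fun c => pres_of_comm, e.trans_lt (by decide), fun i p hp => mem_support.2 fun e =>
          mem_support.1 hp (((m i).2 p).elim id fun e' => e'.trans e), ?_⟩
        have d := disjoint_iff_disjoint_support.2 k
        have := d.card_support_mul
        rw [(kp 0).l.2, (kp 1).l.2] at this
        rcases es_cases e (mul_mem (m 0) (m 1)) with e | e | e
        · simp [e] at this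
        · rw [← e]
          refine mul_inv_eq_iff_eq_mul.1 ?_
          have t5 : τ * j (x 1) * τ⁻¹ = j (x 0) := by
            rw [← t3, show ∀ u, τ * (τ * u * τ⁻¹) * τ⁻¹ = τ * τ * u * (τ * τ)⁻¹ from fun u => by group, t2]; simp
          rw [← conj_mul, t3, t5, d.commute.eq]
        · exact absurd (e.1.symm.trans this) (by decide)
      · have m : ∀ i, (j (x i)).support ⊆ (j b).supportᶜ := fun i => Finset.subset_compl_iff_disjoint_right.2
          (supp_of_card_add (by rw [← map_mul, (kp i).l.2]; exact ((t i).symm.trans (hy i)).trans (by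
            rw [← e, add_comm]))).1
        exact ⟨_, fun c hc i => by simp only [Finset.mem_compl, pres_of_comm hc i], by
          rw [Finset.card_compl]; unfold sc at e; omega, m, (disjoint_iff_disjoint_support.2
          (Finset.subset_compl_iff_disjoint_right.1 (t4.trans (Finset.union_subset (m 0) (m 1))))).commute⟩
    obtain ⟨_, ⟨s, hs, rfl⟩, e⟩ := swap_blocks P.sj.isPGroup (map_le_range _ _) hb.p X1 X2 (X3 0) (X3 1) (kp 0).l.2
      (kp 1).l.2 (kp_le (kp 0)) (kp_le (kp 1)) t1 t2 X4 (by rw [← support_conj, t3]) k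
    exact ⟨s, mem_cent.1 hs, e⟩
  refine ⟨_, ((h1 0).comp ((Cj.self s b).of_eq rfl (mul_inv_eq_iff_eq_mul.2 s1))).comp (h1 1).symm, fun w hw => ?_⟩
  obtain ⟨w1, k1, k2⟩ := A16.In3.cj hw (x2 0) (x4 0)
  have k3 : K4 _ (j w1) := (A16.In3.map j k1).mem (K := kS _) (DT.k4 (kp 0).l) (kp 0).kr
  have k4 := k3.cj (j s)
  rw [s2, ← map_inv, ← map_mul, ← map_mul] at k4
  obtain ⟨w2, k5, k6⟩ := A16.In3.cj ((P.in3 (kp 1) k4).resolve_left
    (mt conj_eq_one_iff.1 ((P.v4 (kp 0)).sq k1).2)) (x2 1).symm (x4 1).symm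
  exact ⟨w2, k5, (k2.comp (Cj.self s w1)).comp k6⟩

end Pb

end

variable {G : Type u} [Group G] [Finite G] {L : Type*} [Group L] [Finite L] {φ : L →* G} {j : L →* Perm Ω}
  {a x w : L} {r : G}

namespace Pat

variable (P : Pat φ j) (h : Fc φ j a) (h8 : sc (j a) = 8)
include P h8

theorem self_mem : j a ∈ eS (j a) (jsq h.sq) := ⟨P.sgn a, fun _ => .inr rfl⟩

theorem ne1 : φ a ≠ 1 := fun e => by simp [P.sy.inj (e.trans φ.map_one.symm), sc] at h8

theorem sc_e : SC (centralizer {φ a}) (eG φ h) := by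
  refine ⟨Gold.scl_of_syl h.g (map_mono fun x hx => mem_cent.2 (P.comm (es_comm (hy := jsq h.sq) hx))) ?_, by
    rintro _ ⟨x, hx, rfl⟩; rw [← map_mul, P.sq (es_sq (hy := jsq h.sq) hx), map_one]⟩
  rintro _ ⟨x, hx, rfl⟩ g hg ⟨y, -, e⟩
  have e1 : Cj φ g x y := e.symm
  have e2 : Cj φ g a a := mem_cent'.1 hg
  have x2 := P.sq (es_sq (hy := jsq h.sq) hx)
  refine ⟨y, mem_es (hy := jsq h.sq) (jsq (P.sy.sq e1 x2)) (P.sgn y) ?_, e⟩
  rw [← map_mul, ← P.ty x2 e1, ← P.ty (FG.mul_sq x2 h.sq (P.comm (es_comm (hy := jsq h.sq) hx))) (e1.mul e2), map_mul, es_sc (hy := jsq h.sq) hx]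

theorem card_e : Nat.card (eG φ h) ≤ 8 := by
  rw [eG, P.sy.card_map, ← card_map_of_injective P.inj]
  exact (card_le_of_le (map_comap_le _ _)).trans (card_es (P.sgn a) h8)

theorem no_cmp (K : Subgroup G) : ¬ Cmp (eG φ h) (centralizer {φ a}) K := by
  obtain ⟨w, hw, w4⟩ := exists_es (hy := jsq h.sq) (P.sgn a) (by omega)
  obtain ⟨w5, dj⟩ := es_dt h8 hw w4
  obtain ⟨τ, t1, t2, t3, -⟩ := exists_tau w4 w5 dj
  have t4 : τ * j a * τ⁻¹ = j a := by
    have e : w * (w * j a) = j a := by rw [← mul_assoc, w4.1, one_mul]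
    have t5 : τ * (w * j a) * τ⁻¹ = w := by
      rw [← t3, show ∀ u, τ * (τ * u * τ⁻¹) * τ⁻¹ = τ * τ * u * (τ * τ)⁻¹ from fun u => by group, t2]; simp
    conv_lhs => rw [← e, ← conj_mul, t3, t5, mul_assoc, ← (es_comm hw).eq, e]
  obtain ⟨c, hc, s, hs, e⟩ := M12c.exists_conj_inv h.p t2 ⟨mem_cent'.2 t4, t1⟩
  have m := es_cj hw (mem_cent.1 hc.1)
  obtain ⟨x, -, e1⟩ := A16.Pat.es_le h m
  refine A16.no_cmp (x := φ x) (s := φ s) (P.sc_e h h8) ⟨a, P.self_mem h h8, rfl⟩ (P.ne1 h8) (P.card_e h h8)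
    ⟨x, show j x ∈ _ from e1 ▸ m, rfl⟩ (map_le_cent (fun _ => mem_cent.1) ⟨s, hs, rfl⟩) (M12c.map_mem_norm fun y hy => by
      simpa using es_cj hy (Commute.map (mem_cent.1 hs) j)) ((Cj.self s x).trans ?_)
  rw [← map_mul, P.inj (a₁ := s * x * s⁻¹) (a₂ := x * a) (by
    rw [map_mul, map_mul, map_inv, map_mul, e, e1, show ∀ u, c * τ * c⁻¹ * (c * u * c⁻¹) * (c * τ * c⁻¹)⁻¹ =
      c * (τ * u * τ⁻¹) * c⁻¹ from fun u => by group, t3, ← conj_mul, mem_cent'.1 hc.1])]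

theorem ncl_le : ncl (centralizer {φ a}) (eG φ h) ≤ Oc (φ a) ⊔ eG φ h :=
  (Gold.thmGAll _ _ (fun X _ _ _ => Gold.gs X) (P.sc_e h h8)).gen.trans
    (sup_le (sup_comm _ _).le (sSup_le fun K hK => absurd hK (P.no_cmp h h8 K)))

theorem bl_e (hx : j x ∈ eS (j a) (jsq h.sq)) (c : Commute r (φ x)) (hb : Bl r (φ x)) : Bl r (φ a) := by
  have S := P.sc_e h h8
  have xE : φ x ∈ eG φ h := ⟨x, hx, rfl⟩
  have n : ∀ {r D}, D ≤ centralizer {r} → D ≤ centralizer {φ a} → D ≤ 𝒩(Oc r ⊓ centralizer {φ a}) := fun h1 h2 =>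
    le_norm_inf (h1.trans (le_normalizer_pPrimeCoreOf _ _)) (h2.trans le_normalizer)
  have o : ∀ {r : G} {D}, D ≤ Oc r → (Nat.card D).Coprime 2 := fun h =>
    (pPrimeCoreOf_coprime 2 _).coprime_dvd_left (card_dvd_of_le h)
  have b1 : Bl (φ x) (φ a) := (Gold.thmGAll _ _ (fun X _ _ _ => Gold.gs X) S).locOdd _ inf_le_right (o inf_le_left)
    (n (S.le_cent_elt xE) S.le) (fun K hK => absurd hK (P.no_cmp h h8 K)) (le_pPrimeCoreOf (inf_le_inf_right _ inf_le_right)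
      (le_norm_inf (n (fun g hg => mem_cent.2 (comm_of_mem hg.2 xE).symm) inf_le_left) (inf_le_right.trans le_normalizer))
      (o (inf_le_left.trans inf_le_left)))
  have xn := n (zpowers_le.2 (mem_cent.2 c.symm)) (zpowers_le.2 (S.le xE)) (mem_zpowers _)
  have od := M12c.odd_of_coprime (o (inf_le_left : Oc r ⊓ centralizer {φ a} ≤ _))
  refine le_of_comm od (S.sq _ xE) xn (fun d hd => ?_) fun d hd => b1 ⟨hb ⟨hd.1.1, hd.2⟩, hd.1.2⟩
  have en := S.le.trans (le_normalizer_pPrimeCoreOf 2 _)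
  obtain ⟨y, hy, s, hs, e⟩ := (mem_sup_nl en).1 (P.ncl_le h h8 (mul_mem (cj_le_ncl _ hd.2 (conj_mem_cj d xE)) (le_ncl _ _ xE)))
  rw [← e]
  refine A8s.mem_of_odd_mul (m := 1) hy (en hs) (by rw [pow_one, _root_.sq, S.sq s hs]) (e ▸ odd_of_mem od ?_)
  simpa [mul_assoc, inv_eq_of_mul_eq_one_right (S.sq _ xE)] using mul_mem hd (conj_mem xn (inv_mem hd))

omit h8 in
theorem bl8 (hx : DT (j x)) (hw : DT (j w)) (c : Commute x w) (h8 : sc (j (x * w)) = 8) (c' : Commute r (φ x))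
    (hb : Bl r (φ x)) : Bl r (φ (x * w)) := by
  have a2 := FG.mul_sq (P.sq hx.1) (P.sq hw.1) c
  obtain ⟨b, e, hf⟩ := P.exists_fc (jsq a2) (P.sgn _)
  obtain ⟨g, h1, h2⟩ := P.ext hf a2 e.symm
  obtain ⟨y, -, h3⟩ := h2 x ((Commute.refl x).mul_right c)
  have h4 := h3.mul h1
  rw [← mul_assoc, P.sq hx.1, one_mul] at h4
  have := (P.bl_e hf (e.trans h8) (mem_es (P.dt hx h3).1 (P.sgn y) (by
    rw [← map_mul, e, h8, show sc _ = 4 from (P.dt hx h3).2, show sc _ = 4 from (P.dt hw h4).2]))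
    (h3 ▸ c'.conj g) (h3 ▸ hb.conj g)).conj g⁻¹
  rwa [h1.symm, show g⁻¹ * (g * r * g⁻¹) * g⁻¹⁻¹ = r by group] at this

end Pat

end CL.A18
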